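import Groth.Prelude.Def_MoreMor
import Mathlib

/-!
# Counting points of geometric fibres
-/

set_option autoImplicit false
set_option backward.isDefEq.respectTransparency false
set_option backward.isDefEq.respectTransparency.types false
universe u

open AlgebraicGeometry CategoryTheory CategoryTheory.Limits

namespace Groth.Agent.Lsc5

variable {X Y : Scheme.{u}} (f : X ⟶ Y)

/-- The spectrum of a separable closure of a residue field. -/
noncomputable abbrev sepPt (z : Y) : Spec (CommRingCat.of (SeparableClosure (Y.residueField z))) ⟶ Spec (Y.residueField z) :=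
  Spec.map (CommRingCat.ofHom (algebraMap (Y.residueField z) (SeparableClosure (Y.residueField z))))

/-- The projection from a geometric fibre. -/
noncomputable def geomπ (z : Y) : MoreMor.geomFiber f z ⟶ X :=
  pullback.fst (f.fiberToSpecResidueField z) (sepPt z) ≫ f.fiberι z

theorem range_geomπ (z : Y) : Set.range (geomπ f z) = f ⁻¹' {z} := by
  haveI : Surjective (sepPt z) := ⟨fun p => ⟨default, Subsingleton.elim _ _⟩⟩
  haveI : Surjective (pullback.fst (f.fiberToSpecResidueField z) (sepPt z)) := inferInstance
  ext x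
  constructor
  · rintro ⟨a, rfl⟩
    have : (f.fiberι z) (pullback.fst (f.fiberToSpecResidueField z) (sepPt z) a) ∈ Set.range (f.fiberι z) := ⟨_, rfl⟩
    rw [Scheme.Hom.range_fiberι] at this
    exact this
  · intro hx
    obtain ⟨w, rfl⟩ : x ∈ Set.range (f.fiberι z) := by rw [Scheme.Hom.range_fiberι]; exact hx
    obtain ⟨a, rfl⟩ := (pullback.fst (f.fiberToSpecResidueField z) (sepPt z)).surjective w
    exact ⟨a, rfl⟩

theorem exists_geomπ_eq {z : Y} {x : X} (hx : f x = z) : ∃ a, geomπ f z a = x := by
  have : x ∈ Set.range (geomπ f z) := by rw [range_geomπ]; exact hx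
  exact this

theorem le_nGeomConnComp (z : Y) {I : Type*} [Finite I] (C : I → Set X) (hC : ∀ i, IsClopen (C i))
    (hd : Pairwise fun i j => Disjoint (C i) (C j)) (hne : ∀ i, ∃ x ∈ C i, f x = z) :
    (Nat.card I : ℕ∞) ≤ MoreMor.nGeomConnComp f z := by
  choose x hxC hxz using hne
  choose a ha using fun i => exists_geomπ_eq f (hxz i)
  rw [← ENat.card_eq_coe_natCard]
  refine ENat.card_le_card_of_injective (f := fun i => ConnectedComponents.mk (a i)) fun i j h => ?_
  by_contra hne
  have hsub := ((hC i).preimage (geomπ f z).continuous).connectedComponent_subset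
    (show a i ∈ geomπ f z ⁻¹' C i by show geomπ f z (a i) ∈ C i; rw [ha]; exact hxC i)
  have hj : a j ∈ connectedComponent (a i) := by
    rw [ConnectedComponents.coe_eq_coe.1 h]
    exact mem_connectedComponent
  have h2 : geomπ f z (a j) ∈ C i := hsub hj
  rw [ha] at h2
  exact Set.disjoint_left.1 (hd hne) h2 (hxC j)

theorem universallyInjective_SpecMap {K L : CommRingCat.{u}} (φ : K ⟶ L) (hK : IsField K) (hL : IsField L)
    (h : ∀ (E : Type u) [Field E] (σ τ : L →+* E), σ.comp φ.hom = τ.comp φ.hom → σ = τ) :
    UniversallyInjective (Spec.map φ) := by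
  refine ((tfae_universallyInjective (Spec.map φ)).out 1 0).1 ?_
  intro E instE g₁ g₂ hg
  obtain ⟨σ, rfl⟩ := Spec.map_surjective g₁
  obtain ⟨τ, rfl⟩ := Spec.map_surjective g₂
  simp only [← Spec.map_comp] at hg
  have h2 := Spec.map_injective hg
  congr 1
  ext1
  exact @h E instE σ.hom τ.hom (congrArg CommRingCat.Hom.hom h2)

theorem subsingleton_over {v : X} {z : Y} (hz : f v = z)
    (hp : letI := (f.residueFieldMap v).hom.toAlgebra
      IsPurelyInseparable (Y.residueField (f v)) (X.residueField v)) :
    (geomπ f z ⁻¹' {v}).Subsingleton := by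
  subst hz
  letI := (f.residueFieldMap v).hom.toAlgebra
  haveI := hp
  haveI : UniversallyInjective (Spec.map (f.residueFieldMap v)) :=
    universallyInjective_SpecMap _ (Field.toIsField _) (Field.toIsField _) fun E _ σ τ h =>
      IsPurelyInseparable.injective_comp_algebraMap (Y.residueField (f v)) (X.residueField v) E h
  haveI : UniversallyInjective (pullback.snd (Spec.map (f.residueFieldMap v)) (sepPt (f v))) :=
    MorphismProperty.pullback_snd _ _ inferInstance
  haveI : Subsingleton ↥(pullback (Spec.map (f.residueFieldMap v)) (sepPt (f v))) :=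
    ⟨fun a b => (pullback.snd (Spec.map (f.residueFieldMap v)) (sepPt (f v))).injective (Subsingleton.elim _ _)⟩
  let s : Spec (X.residueField v) ⟶ f.fiber (f v) :=
    pullback.lift (X.fromSpecResidueField v) (Spec.map (f.residueFieldMap v))
      (Scheme.Hom.SpecMap_residueFieldMap_fromSpecResidueField f v).symm
  have hs1 : s ≫ f.fiberι (f v) = X.fromSpecResidueField v := pullback.lift_fst _ _ _
  have hs2 : s ≫ f.fiberToSpecResidueField (f v) = Spec.map (f.residueFieldMap v) := pullback.lift_snd _ _ _
  let T := pullback.map (Spec.map (f.residueFieldMap v)) (sepPt (f v)) (f.fiberToSpecResidueField (f v))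
    (sepPt (f v)) s (𝟙 _) (𝟙 _) (by simp [hs2]) (by simp)
  have hmem : ∀ a, geomπ f (f v) a = v → a ∈ Set.range T := fun a ha => by
    rw [show T = _ from rfl, Scheme.Pullback.range_map]
    refine ⟨⟨(default : ↥(Spec (X.residueField v))), ?_⟩, ⟨(pullback.snd (f.fiberToSpecResidueField (f v)) (sepPt (f v))) a, rfl⟩⟩
    refine (f.fiberι (f v)).isEmbedding.injective ?_
    refine Eq.trans ?_ ha.symm
    show (s ≫ f.fiberι (f v)) _ = v
    rw [hs1]
    exact Scheme.fromSpecResidueField_apply _ _
  rintro a ha b hb
  obtain ⟨a', rfl⟩ := hmem a ha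
  obtain ⟨b', rfl⟩ := hmem b hb
  rw [Subsingleton.elim a' b']

theorem nGeomConnComp_le (z : Y) {I : Type*} [Finite I] (v : I → X)
    (hv : ∀ x, f x = z → ∃ i, x = v i)
    (hp : ∀ i, f (v i) = z ∧ (letI := (f.residueFieldMap (v i)).hom.toAlgebra
      IsPurelyInseparable (Y.residueField (f (v i))) (X.residueField (v i)))) :
    MoreMor.nGeomConnComp f z ≤ Nat.card I := by
  have h : ∀ a, ∃ i, geomπ f z a = v i := fun a => hv _ (by
    have : geomπ f z a ∈ Set.range (geomπ f z) := ⟨a, rfl⟩
    rw [range_geomπ] at this
    exact this)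
  choose i hi using h
  have hinj : Function.Injective i := fun a b hab =>
    subsingleton_over f (hp (i a)).1 (hp (i a)).2 (hi a) (show geomπ f z b = v (i a) by rw [hab]; exact hi b)
  rw [← ENat.card_eq_coe_natCard, MoreMor.nGeomConnComp]
  refine le_trans ?_ (ENat.card_le_card_of_injective hinj)
  exact ENat.card_le_card_of_injective (f := Function.surjInv ConnectedComponents.surjective_coe)
    (Function.injective_surjInv _)

end Groth.Agent.Lsc5
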