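import Groth.Agent.Lsc5.Count
import Groth.Agent.S9778
import Groth.Agent.S1335
import Groth.Agent.EtFound.Descent
import Groth.Agent.Proj16.UClosed
import Groth.Prelude.Def_EGA43

/-!
# Semicontinuity of the geometric number of points of quasi-finite morphisms
-/

set_option autoImplicit false
set_option maxHeartbeats 1000000
set_option backward.isDefEq.respectTransparency false
set_option backward.isDefEq.respectTransparency.types false
universe u

open AlgebraicGeometry CategoryTheory CategoryTheory.Limits TopologicalSpace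

namespace Groth.Agent.Lsc5

variable {X Y : Scheme.{u}} (f : X ⟶ Y)

theorem isUnivOpenAt_of_universallyOpen [UniversallyOpen f] (x : X) : EGA43.IsUnivOpenAt f x := by
  intro Y' g x' _ N hN
  obtain ⟨O, hON, hO, hxO⟩ := mem_nhds_iff.1 hN
  exact Filter.mem_of_superset
    (((pullback.snd f g).isOpenMap _ hO).mem_nhds ⟨x', hxO, rfl⟩) (Set.image_mono hON)

variable [IsSeparated f] [LocallyQuasiFinite f] [LocallyOfFiniteType f] [QuasiCompact f]

/-- The splitting data. -/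
theorem exists_splitting (y : Y) (h : ∀ x : X, f x = y → EGA43.IsUnivOpenAt f x) :
    ∃ (U : Scheme.{u}) (g : U ⟶ Y) (u : U) (_ : Etale g) (I : Type) (_ : Finite I)
      (C : I → (pullback f g).Opens) (U₀ : U.Opens),
      g u = y ∧ u ∈ U₀ ∧ (∀ i, IsClopen (C i : Set ↑(pullback f g))) ∧
      Pairwise (fun i j => Disjoint (C i : Set ↑(pullback f g)) (C j)) ∧
      (∀ i, IsFinite ((C i).ι ≫ pullback.snd f g)) ∧
      (∀ i, ∀ z ∈ U₀, ∃ w ∈ C i, pullback.snd f g w = z) ∧
      MoreMor.nGeomConnComp (pullback.snd f g) u ≤ (Nat.card I : ℕ) := by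
  classical
  obtain ⟨n, ⟨e⟩⟩ := (f.finite_preimage_singleton y).to_subtype.exists_equiv_fin
  let x : Fin n → X := fun i => (e.symm i).1
  have hx : ∀ i, f (x i) = y := fun i => (e.symm i).2
  obtain ⟨U, g, u, hg, hgu, J, hJ, V, v, hV, hdisj, hprop, hcover⟩ := Groth.Agent.S9778.result f y x
    (Subtype.val_injective.comp e.symm.injective) hx (fun i => f.quasiFiniteAt _)
  let I := Σ i, J i
  have hopen : ∀ p : I, (pullback.snd f g) '' (V p.1 p.2) ∈ nhds u := fun p => by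
    obtain ⟨h1, -, h3, -, -, h6⟩ := hprop p.1 p.2
    have := h (pullback.fst f g (v p.1 p.2)) (by rw [h6]; exact hx _) U g (v p.1 p.2) rfl
      (V p.1 p.2 : Set ↑(pullback f g)) ((V p.1 p.2).2.mem_nhds h1)
    rwa [h3] at this
  obtain ⟨O, hO, hOo, huO⟩ := mem_nhds_iff.1 (Filter.iInter_mem.2 hopen)
  refine ⟨U, g, u, hg, I, inferInstance, fun p => V p.1 p.2, ⟨O, hOo⟩, hgu, huO, fun p => hV _ _, ?_,
    fun p => (hprop p.1 p.2).2.1, fun p z hz => ?_, ?_⟩
  · intro p q hpq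
    rw [Set.disjoint_iff_inter_eq_empty]
    by_contra hne
    obtain ⟨h1, h2⟩ := hdisj p.1 p.2 q.1 q.2 (Set.nonempty_iff_ne_empty.2 hne)
    exact hpq (Sigma.ext h1 h2)
  · obtain ⟨w, hw, hwz⟩ := Set.mem_iInter.1 (hO hz) p
    exact ⟨w, hw, hwz⟩
  · refine nGeomConnComp_le (pullback.snd f g) u (I := I) (fun p => v p.1 p.2) (fun w hw => ?_) fun p => ?_
    · have hy : f (pullback.fst f g w) = y := by
        rw [← Scheme.Hom.comp_apply, pullback.condition, Scheme.Hom.comp_apply, hw, hgu]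
      obtain ⟨i, hi⟩ : ∃ i, x i = pullback.fst f g w :=
        ⟨e ⟨_, hy⟩, by simp [x]⟩
      obtain ⟨j, hj⟩ := hcover w i hw hi.symm
      exact ⟨⟨i, j⟩, (hprop i j).2.2.2.1 w hj hw⟩
    · exact ⟨(hprop p.1 p.2).2.2.1, (hprop p.1 p.2).2.2.2.2.1⟩

theorem lsc_at (y : Y) (h : ∀ x : X, f x = y → EGA43.IsUnivOpenAt f x) :
    ∃ V ∈ nhds y, ∀ z ∈ V, MoreMor.nGeomConnComp f y ≤ MoreMor.nGeomConnComp f z := by
  obtain ⟨U, g, u, hg, I, hI, C, U₀, hgu, hu, hC, hd, -, hne, hle⟩ := exists_splitting f y h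
  refine ⟨g '' U₀, (g.isOpenMap _ U₀.2).mem_nhds ⟨u, hu, hgu⟩, ?_⟩
  rintro _ ⟨z, hz, rfl⟩
  rw [← hgu, ← S1335.result f (pullback.snd f g) (pullback.fst f g) g (IsPullback.of_hasPullback f g) u,
    ← S1335.result f (pullback.snd f g) (pullback.fst f g) g (IsPullback.of_hasPullback f g) z]
  exact hle.trans (le_nGeomConnComp (pullback.snd f g) z (fun i => (C i : Set ↑(pullback f g))) hC hd
    fun i => hne i z hz)

theorem proper_nhd (y : Y) (h : ∀ x : X, f x = y → EGA43.IsUnivOpenAt f x)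
    (hc : ∃ V ∈ nhds y, ∀ z ∈ V, MoreMor.nGeomConnComp f z = MoreMor.nGeomConnComp f y) :
    ∃ W : Y.Opens, y ∈ W ∧ IsProper (f ∣_ W) := by
  obtain ⟨U, g, u, hg, I, hI, C, U₀, hgu, hu, hC, hd, hfin, hne, hle⟩ := exists_splitting f y h
  obtain ⟨N, hN, hNc⟩ := hc
  obtain ⟨O, hON, hOo, hyO⟩ := mem_nhds_iff.1 hN
  obtain ⟨Vy, hVy, hyVy, hVyO⟩ := exists_isAffineOpen_mem_and_subset (U := (⟨O, hOo⟩ : Y.Opens)) (x := y) hyO
  obtain ⟨U₁, hU₁, huU₁, hU₁s⟩ := exists_isAffineOpen_mem_and_subset (U := U₀ ⊓ g ⁻¹ᵁ Vy) (x := u)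
    ⟨hu, show g u ∈ Vy from hgu ▸ hyVy⟩
  -- nothing outside the finite pieces
  have hall : ∀ w, pullback.snd f g w ∈ U₁ → ∃ i, w ∈ C i := fun w hw => by
    by_contra hno
    push Not at hno
    let z := pullback.snd f g w
    let C' : Option I → Set ↑(pullback f g) := fun o => o.elim (⋃ i, (C i : Set ↑(pullback f g)))ᶜ fun i => C i
    have hC' : ∀ o, IsClopen (C' o) := fun o => by
      cases o with
      | none => exact (isClopen_iUnion_of_finite hC).compl
      | some i => exact hC i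
    have hd' : Pairwise fun i j => Disjoint (C' i) (C' j) := by
      rintro (_ | i) (_ | j) hij
      · exact absurd rfl hij
      · exact Set.disjoint_left.2 fun a ha hb => ha (Set.mem_iUnion.2 ⟨j, hb⟩)
      · exact Set.disjoint_left.2 fun a ha hb => hb (Set.mem_iUnion.2 ⟨i, ha⟩)
      · exact hd fun h => hij (congrArg some h)
    have hne' : ∀ o, ∃ a ∈ C' o, pullback.snd f g a = z := fun o => by
      cases o with
      | none => exact ⟨w, fun hmem => by obtain ⟨i, hi⟩ := Set.mem_iUnion.1 hmem; exact hno i hi, rfl⟩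
      | some i => exact hne i z (hU₁s hw).1
    have h1 := le_nGeomConnComp (pullback.snd f g) z C' hC' hd' hne'
    rw [S1335.result f (pullback.snd f g) (pullback.fst f g) g (IsPullback.of_hasPullback f g) z,
      hNc _ (hON (hVyO (hU₁s hw).2)), ← hgu,
      ← S1335.result f (pullback.snd f g) (pullback.fst f g) g (IsPullback.of_hasPullback f g) u] at h1
    have h2 := h1.trans hle
    rw [Finite.card_option] at h2
    have h3 : Nat.card I + 1 ≤ Nat.card I := by exact_mod_cast h2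
    omega
  let fU := pullback.snd f g
  haveI : UniversallyClosed (fU ∣_ U₁) := by
    refine Proj16.universallyClosed_of_finite_cover (fU ∣_ U₁) (fun i => (C i).ι ∣_ (fU ⁻¹ᵁ U₁)) (fun i => ?_) fun p => ?_
    · haveI := hfin i
      rw [← morphismRestrict_comp]
      haveI : IsFinite (((C i).ι ≫ fU) ∣_ U₁) := IsZariskiLocalAtTarget.restrict (hfin i) U₁
      infer_instance
    · obtain ⟨i, hi⟩ := hall p.1 p.2
      exact ⟨i, ⟨⟨p.1, hi⟩, p.2⟩, Subtype.ext (morphismRestrict_base_coe _ _ _)⟩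
  haveI : IsSeparated (fU ∣_ U₁) := IsZariskiLocalAtTarget.restrict (P := @IsSeparated) inferInstance U₁
  haveI : LocallyOfFiniteType (fU ∣_ U₁) := IsZariskiLocalAtTarget.restrict (P := @LocallyOfFiniteType) inferInstance U₁
  haveI : IsProper (fU ∣_ U₁) := {}
  -- descend along the etale cover of the image
  let W : Y.Opens := ⟨g '' U₁, g.isOpenMap _ U₁.2⟩
  have hWV : W ≤ Vy := by
    rintro _ ⟨z, hz, rfl⟩
    exact (hU₁s hz).2
  let g' : (U₁ : Scheme.{u}) ⟶ W := IsOpenImmersion.lift W.ι (U₁.ι ≫ g) (by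
    rintro _ ⟨z, rfl⟩
    simp only [Scheme.Opens.range_ι]
    exact ⟨z.1, z.2, rfl⟩)
  have hg' : g' ≫ W.ι = U₁.ι ≫ g := IsOpenImmersion.lift_fac _ _ _
  haveI : Etale (g' ≫ W.ι) := by rw [hg']; infer_instance
  haveI : Etale g' := Etale.of_comp g' W.ι
  haveI : Surjective g' := ⟨fun p => by
    obtain ⟨z, hz, hzp⟩ := p.2
    refine ⟨⟨z, hz⟩, Subtype.ext ?_⟩
    show (g' ≫ W.ι) ⟨z, hz⟩ = p.1
    rw [hg']; exact hzp⟩
  haveI : IsAffine (U₁ : Scheme.{u}) := hU₁
  haveI : IsAffine (Vy : Scheme.{u}) := hVy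
  haveI : QuasiCompact g' := by
    haveI : IsSeparated (terminal.from (W : Scheme.{u})) := by
      rw [← terminal.comp_from (Y.homOfLE hWV)]; infer_instance
    haveI : QuasiCompact (g' ≫ terminal.from (W : Scheme.{u})) := by
      rw [terminal.comp_from]; infer_instance
    exact QuasiCompact.of_comp g' (terminal.from (W : Scheme.{u}))
  let k : ((fU ⁻¹ᵁ U₁) : Scheme.{u}) ⟶ (f ⁻¹ᵁ W : X.Opens) :=
    IsOpenImmersion.lift (f ⁻¹ᵁ W).ι ((fU ⁻¹ᵁ U₁).ι ≫ pullback.fst f g) (by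
      rintro _ ⟨p, rfl⟩
      simp only [Scheme.Opens.range_ι]
      refine ⟨fU p.1, p.2, ?_⟩
      show g (fU p.1) = f (pullback.fst f g p.1)
      rw [← Scheme.Hom.comp_apply, ← Scheme.Hom.comp_apply, pullback.condition])
  have hk : k ≫ (f ⁻¹ᵁ W).ι = (fU ⁻¹ᵁ U₁).ι ≫ pullback.fst f g := IsOpenImmersion.lift_fac _ _ _
  have hbig : IsPullback (k ≫ (f ⁻¹ᵁ W).ι) (fU ∣_ U₁) f (g' ≫ W.ι) := by
    rw [hk, hg']
    exact ((isPullback_morphismRestrict fU U₁).flip).paste_horiz (IsPullback.of_hasPullback f g)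
  have hsq : IsPullback k (fU ∣_ U₁) (f ∣_ W) g' := by
    refine IsPullback.of_right hbig ?_ ((isPullback_morphismRestrict f W).flip)
    rw [← cancel_mono W.ι, Category.assoc, Category.assoc, morphismRestrict_ι, hg', reassoc_of% hk,
      morphismRestrict_ι_assoc, pullback.condition]
  refine ⟨W, ⟨u, huU₁, hgu⟩, ?_⟩
  haveI := EtFound.fpqc_isProper.{u}
  exact MorphismProperty.of_isPullback_of_descendsAlong (P := @IsProper)
    (Q := (@Surjective ⊓ @Flat ⊓ @QuasiCompact : MorphismProperty Scheme.{u})) hsq.flip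
    ⟨⟨inferInstance, inferInstance⟩, inferInstance⟩ inferInstance

end Groth.Agent.Lsc5
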