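import Groth.Agent.Lsc5.Count
import Groth.Agent.S9778
import Groth.Agent.S1335
import Groth.Agent.MorLib.GeomPts
import Groth.Agent.MorLib.GeomFibre
import Mathlib

/-!
# Splitting the points of a quasi-finite fibre
-/

set_option autoImplicit false
set_option backward.isDefEq.respectTransparency false
set_option backward.isDefEq.respectTransparency.types false
universe u

open AlgebraicGeometry CategoryTheory CategoryTheory.Limits

namespace Groth.Agent.Lsc5

variable {X Y : Scheme.{u}} (f : X ⟶ Y)

theorem subsingleton_over' {v : X} {z : Y} (hz : f v = z)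
    (hp : letI := (f.residueFieldMap v).hom.toAlgebra
      IsPurelyInseparable (Y.residueField (f v)) (X.residueField v))
    {E : Type u} [Field E] (b : Spec (CommRingCat.of E) ⟶ Spec (Y.residueField z)) :
    ((pullback.fst f (b ≫ Y.fromSpecResidueField z)) ⁻¹' {v}).Subsingleton := by
  subst hz
  letI := (f.residueFieldMap v).hom.toAlgebra
  haveI := hp
  haveI : UniversallyInjective (Spec.map (f.residueFieldMap v)) :=
    universallyInjective_SpecMap _ (Field.toIsField _) (Field.toIsField _) fun E _ σ τ h =>
      IsPurelyInseparable.injective_comp_algebraMap (Y.residueField (f v)) (X.residueField v) E h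
  haveI : UniversallyInjective (pullback.snd (Spec.map (f.residueFieldMap v)) b) :=
    MorphismProperty.pullback_snd _ _ inferInstance
  haveI : Subsingleton ↥(Spec (CommRingCat.of E)) := inferInstanceAs (Subsingleton (PrimeSpectrum E))
  haveI : Subsingleton ↥(pullback (Spec.map (f.residueFieldMap v)) b) :=
    ⟨fun a c => (pullback.snd (Spec.map (f.residueFieldMap v)) b).injective (Subsingleton.elim _ _)⟩
  let T := pullback.map (Spec.map (f.residueFieldMap v)) b f (b ≫ Y.fromSpecResidueField (f v))
    (X.fromSpecResidueField v) (𝟙 _) (Y.fromSpecResidueField (f v))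
    (by rw [Scheme.Hom.SpecMap_residueFieldMap_fromSpecResidueField]) (by simp)
  have hmem : ∀ a, pullback.fst f (b ≫ Y.fromSpecResidueField (f v)) a = v → a ∈ Set.range T := fun a ha => by
    rw [show T = _ from rfl, Scheme.Pullback.range_map]
    exact ⟨⟨(default : ↥(Spec (X.residueField v))), (Scheme.fromSpecResidueField_apply _ _).trans ha.symm⟩,
      ⟨(pullback.snd f (b ≫ Y.fromSpecResidueField (f v))) a, rfl⟩⟩
  rintro a ha c hc
  obtain ⟨a', rfl⟩ := hmem a ha
  obtain ⟨c', rfl⟩ := hmem c hc
  rw [Subsingleton.elim a' c']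

theorem card_pullback_of_split {I : Type*} [Finite I] (z : Y) (v : I → X) (hinj : Function.Injective v)
    (hv : ∀ x, f x = z ↔ ∃ i, v i = x)
    (hp : ∀ i, letI := (f.residueFieldMap (v i)).hom.toAlgebra
      IsPurelyInseparable (Y.residueField (f (v i))) (X.residueField (v i)))
    {E : Type u} [Field E] (b : Spec (CommRingCat.of E) ⟶ Spec (Y.residueField z)) :
    ENat.card ↥(pullback f (b ≫ Y.fromSpecResidueField z)) = Nat.card I := by
  let p := pullback.fst f (b ≫ Y.fromSpecResidueField z)
  have hfz : ∀ a, ∃ i, v i = p a := fun a => (hv _).1 (by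
    show (p ≫ f) a = z
    rw [pullback.condition, Scheme.Hom.comp_apply, Scheme.Hom.comp_apply, Scheme.fromSpecResidueField_apply])
  choose i hi using hfz
  have hbij : Function.Bijective i := by
    refine ⟨fun a c h => subsingleton_over' f ((hv _).2 ⟨i a, rfl⟩) (hp (i a)) b (hi a).symm
      (show p c = v (i a) by rw [h, hi]), fun j => ?_⟩
    obtain ⟨a, ha, -⟩ := Scheme.Pullback.exists_preimage_pullback (f := f) (g := b ≫ Y.fromSpecResidueField z)
      (v j) (IsLocalRing.closedPoint E) (by
        rw [Scheme.Hom.comp_apply, Scheme.fromSpecResidueField_apply]; exact (hv _).2 ⟨j, rfl⟩)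
    exact ⟨a, hinj ((hi a).trans ha)⟩
  rw [← ENat.card_eq_coe_natCard]
  exact ENat.card_congr (Equiv.ofBijective i hbij)

variable [IsSeparated f] [LocallyQuasiFinite f] [LocallyOfFiniteType f] [QuasiCompact f]

/-- After an etale neighbourhood, the points of a fibre split completely. -/
theorem exists_split (y : Y) :
    ∃ (U : Scheme.{u}) (g : U ⟶ Y) (u : U), Etale g ∧ g u = y ∧
      ∀ (E : Type u) [Field E] (b : Spec (CommRingCat.of E) ⟶ Spec (U.residueField u)),
        ENat.card ↥(pullback f (b ≫ U.fromSpecResidueField u ≫ g)) = MoreMor.nGeomConnComp f y := by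
  classical
  obtain ⟨n, ⟨e⟩⟩ := (f.finite_preimage_singleton y).to_subtype.exists_equiv_fin
  let x : Fin n → X := fun i => (e.symm i).1
  have hx : ∀ i, f (x i) = y := fun i => (e.symm i).2
  obtain ⟨U, g, u, hg, hgu, J, hJ, V, v, -, -, hprop, hcover⟩ := Groth.Agent.S9778.result f y x
    (Subtype.val_injective.comp e.symm.injective) hx (fun i => f.quasiFiniteAt _)
  refine ⟨U, g, u, hg, hgu, ?_⟩
  let I := Set.range fun p : Σ i, J i => v p.1 p.2
  have hv : ∀ w, pullback.snd f g w = u ↔ ∃ i : I, (i : ↥(pullback f g)) = w := fun w => by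
    constructor
    · intro hw
      have hy : f (pullback.fst f g w) = y := by
        rw [← Scheme.Hom.comp_apply, pullback.condition, Scheme.Hom.comp_apply, hw, hgu]
      obtain ⟨i, hi⟩ : ∃ i, x i = pullback.fst f g w := ⟨e ⟨_, hy⟩, by simp [x]⟩
      obtain ⟨j, hj⟩ := hcover w i hw hi.symm
      exact ⟨⟨w, ⟨i, j⟩, ((hprop i j).2.2.2.1 w hj hw).symm⟩, rfl⟩
    · rintro ⟨⟨_, p, rfl⟩, rfl⟩
      exact (hprop p.1 p.2).2.2.1
  have hp : ∀ i : I, letI := ((pullback.snd f g).residueFieldMap i.1).hom.toAlgebra
      IsPurelyInseparable (U.residueField (pullback.snd f g i.1)) ((pullback f g).residueField i.1) := by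
    rintro ⟨_, p, rfl⟩
    exact (hprop p.1 p.2).2.2.2.2.1
  have hn : MoreMor.nGeomConnComp f y = (Nat.card I : ℕ∞) := by
    rw [← hgu, ← S1335.result f (pullback.snd f g) (pullback.fst f g) g (IsPullback.of_hasPullback f g) u]
    haveI := MorLib.GP.discreteTopology_geomFiber (pullback.snd f g) u
    rw [MoreMor.nGeomConnComp, MorLib.GP.card_connectedComponents_of_discrete,
      ← card_pullback_of_split (pullback.snd f g) u (fun i : I => i.1) Subtype.val_injective hv hp (sepPt u)]
    exact ENat.card_congr (pullbackLeftPullbackSndIso (pullback.snd f g) (U.fromSpecResidueField u) (sepPt u)).schemeIsoToHomeo.toEquiv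
  intro E _ b
  rw [hn, ← card_pullback_of_split (pullback.snd f g) u (fun i : I => i.1) Subtype.val_injective hv hp b]
  rw [← Category.assoc]
  exact (ENat.card_congr (pullbackLeftPullbackSndIso f g (b ≫ U.fromSpecResidueField u)).schemeIsoToHomeo.toEquiv).symm

end Groth.Agent.Lsc5
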